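import Cfsg.Agent.J4Rep94.S3.Data

/-!
# Certificate data
-/

set_option autoImplicit false
set_option maxRecDepth 100000

namespace Cfsg.Agent.J4Rep94.S3

open Cfsg.Agent.CosetEnum

def fv0 : ℕ := 0x99000010000100147000020004d00005000a3000010000300145000020005200006000b5000010000500143000020005b00005000c7000010009100141000020006400006000d9000010009b0013f000020006d00005000eb00001000a50013d000020007600004000fd00001000b70013b000020007f000050010f00001000c900138000020008800004000db000ed000ff0011100137000050010e000fc000ea000d8000c6000b4000a2000980008e0008c0008a00088000860008400082000800007e0007c0007a00078000760007400127000a1000b3000c5000d7000e9000fb0010d0011f0001f00090000030000000110000fe000ec000da000c8000b600129000b9000cb000dd000ef0010100113001310011400102000f0000de000cc000ba0012b000bd000cf000e1000f30010500117001330011800106000f4000e2000d0000be0012d000c1000d3000e5000f7001090011b001350011c0010a000f8000e6000d4000c20012f000c5000d7000e9000fb0010d0011f000370009000002000000011a00108000f6000e4000d2000c0000ae0009e0012400051000530005500057000590005b0005d0005f00061000630006500067000690006b0006d0006f0007100097000a1000b1000c3000d5000e7000f90010b0011d000230008f00001000000011600104000f2000e0000ce000bc000aa0009c001220002d0002f00031000330003500037000390003b0003d0003f00041000430004500047000490004b0004d000950009f000ad000bf000d1000e3000f50010700119000230008d00001000000011200100000ee000dc000ca000b8000a60009a00120000090000b0000d0000f00011000130001500017000190001b0001d0001f0002100023000250002700029000930009d000a9000bb000cd000df000f10010300115000230008b0000100000000b0000b3000020005a0000000000000ac000af00002000580000000000000a8000ab00002000560000000000000a4000a7000020005400000000000007200097000020004c00000000000004e00095000020004b00000000000002a00093000020004a00000000000000600091000020004900000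
theorem fok0 : sys.checkFacts 144 21 fv0 = true := by decide +kernel


end Cfsg.Agent.J4Rep94.S3
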